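import Mathlib.Algebra.MvPolynomial.PDeriv
import Mathlib.Algebra.MvPolynomial.Degrees
import Mathlib.Algebra.MvPolynomial.NoZeroDivisors
import Mathlib.LinearAlgebra.Dimension.StrongRankCondition
import Mathlib.Algebra.Polynomial.FieldDivision
import Mathlib.RingTheory.PrincipalIdealDomain
import Mathlib.RingTheory.Polynomial.Basic
import Mathlib.FieldTheory.IsAlgClosed.AlgebraicClosure
import Mathlib.LinearAlgebra.Dimension.Finite
import Mathlib.Algebra.CharP.Two
import Mathlib.LinearAlgebra.Dual.Lemmas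

/-!
# Polynomials of degree at most two in the square of an ideal of the polynomial ring in two variables
-/

set_option autoImplicit false

universe u

open MvPolynomial

namespace QuadIdealLib

variable {κ : Type u} [Field κ]

/-- A polynomial of degree at most one. -/
noncomputable def lin (g h i : κ) : MvPolynomial (Fin 2) κ := C g + C h * X 0 + C i * X 1

theorem lin_eq_zero {g h i : κ} (h0 : lin g h i = 0) : g = 0 ∧ h = 0 ∧ i = 0 := by
  have e := congrArg (fun p => coeff 0 p) h0
  have e0 := congrArg (fun p => coeff (Finsupp.single 0 1) p) h0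
  have e1 := congrArg (fun p => coeff (Finsupp.single 1 1) p) h0
  simp [lin, coeff_C_mul, coeff_X', coeff_C, eq_comm, Finsupp.single_eq_zero,
    Finsupp.single_eq_single_iff] at e e0 e1
  exact ⟨e, e0, e1⟩

theorem deriv_mem {R : Type u} [CommRing R] [Algebra κ R] (D : Derivation κ R R) {I : Ideal R} {q : R}
    (hq : q ∈ I ^ 2) : D q ∈ I := by
  rw [pow_two] at hq
  refine Submodule.mul_induction_on hq ?_ ?_
  · intro m hm n hn
    rw [Derivation.leibniz, smul_eq_mul, smul_eq_mul]
    exact I.add_mem (I.mul_mem_right _ hm) (I.mul_mem_right _ hn)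
  · intro x y hx hy
    rw [map_add]; exact I.add_mem hx hy

/-- Substitution along a line. -/
noncomputable def sub (u : Fin 2 → Polynomial κ) : MvPolynomial (Fin 2) κ →ₐ[κ] Polynomial κ := aeval u

theorem natDegree_sub_le (u : Fin 2 → Polynomial κ) (hu : ∀ j, (u j).natDegree ≤ 1)
    (p : MvPolynomial (Fin 2) κ) : (sub u p).natDegree ≤ p.totalDegree := by
  rw [sub, aeval_def, eval₂_eq]
  refine Polynomial.natDegree_sum_le_of_forall_le _ _ fun d hd => ?_
  refine (Polynomial.natDegree_C_mul_le _ _).trans ((Polynomial.natDegree_prod_le _ _).trans ?_)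
  refine le_trans ?_ (le_totalDegree hd)
  refine Finset.sum_le_sum fun j _ => ?_
  refine Polynomial.natDegree_pow_le.trans ?_
  simpa using Nat.mul_le_mul_left (d j) (hu j)

theorem exists_sub {g h i : κ} (hne : h ≠ 0 ∨ i ≠ 0) :
    ∃ u : Fin 2 → Polynomial κ, (∀ j, (u j).natDegree ≤ 1) ∧ Function.Surjective (sub u) ∧
      ∀ p, sub u p = 0 ↔ lin g h i ∣ p := by
  have main : ∀ (u : Fin 2 → Polynomial κ) (k : Fin 2), (u k = Polynomial.X) →
      (∀ j, Ideal.Quotient.mkₐ κ (Ideal.span {lin g h i}) (Polynomial.aeval (X k) (u j)) =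
        Ideal.Quotient.mkₐ κ (Ideal.span {lin g h i}) (X j)) → sub u (lin g h i) = 0 →
      Function.Surjective (sub u) ∧ ∀ p, sub u p = 0 ↔ lin g h i ∣ p := by
    intro u k hk hmk h0
    refine ⟨fun p => ⟨Polynomial.aeval (X k) p, ?_⟩, fun p => ⟨fun hp => ?_, ?_⟩⟩
    · rw [← Polynomial.aeval_algHom_apply, sub, aeval_X, hk, Polynomial.aeval_X_left_apply]
    · rw [← Ideal.mem_span_singleton, ← Ideal.Quotient.eq_zero_iff_mem]
      have e : ((Ideal.Quotient.mkₐ κ (Ideal.span {lin g h i})).comp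
          ((Polynomial.aeval (X k : MvPolynomial (Fin 2) κ)).comp (sub u))) =
          Ideal.Quotient.mkₐ κ (Ideal.span {lin g h i}) := by
        refine MvPolynomial.algHom_ext fun j => ?_
        rw [AlgHom.comp_apply, AlgHom.comp_apply, sub, aeval_X]
        exact hmk j
      refine (AlgHom.congr_fun e p).symm.trans ?_
      rw [AlgHom.comp_apply, AlgHom.comp_apply, hp, map_zero, map_zero]
    · rintro ⟨c, rfl⟩
      rw [map_mul, h0, zero_mul]
  rcases em (h = 0) with hh | hh
  · have hi : i ≠ 0 := hne.resolve_left (fun hn => hn hh)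
    refine ⟨![Polynomial.X, Polynomial.C (-g / i)], ?_, main _ 0 rfl ?_ ?_⟩
    · intro j; fin_cases j <;> simp
    · intro j; fin_cases j
      · simp
      · refine Ideal.Quotient.eq.mpr (Ideal.mem_span_singleton.mpr ⟨C (-i⁻¹), ?_⟩)
        simp [lin, hh, div_eq_mul_inv]
        have : C i * C i⁻¹ = (1 : MvPolynomial (Fin 2) κ) := by rw [← map_mul, mul_inv_cancel₀ hi, map_one]
        linear_combination (X 1 : MvPolynomial (Fin 2) κ) * this
    · simp [sub, lin, hh, Polynomial.algebraMap_eq]
      rw [← map_mul, ← map_add, mul_div_cancel₀ _ hi, add_neg_cancel, map_zero]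
  · refine ⟨![Polynomial.C (-g / h) + Polynomial.C (-i / h) * Polynomial.X, Polynomial.X], ?_,
      main _ 1 rfl ?_ ?_⟩
    · intro j; fin_cases j
      · refine (Polynomial.natDegree_add_le _ _).trans (max_le (by simp) ?_)
        exact (Polynomial.natDegree_C_mul_le _ _).trans Polynomial.natDegree_X_le
      · exact Polynomial.natDegree_X_le
    · intro j; fin_cases j
      · refine Ideal.Quotient.eq.mpr (Ideal.mem_span_singleton.mpr ⟨C (-h⁻¹), ?_⟩)
        simp [lin, div_eq_mul_inv]
        have : C h * C h⁻¹ = (1 : MvPolynomial (Fin 2) κ) := by rw [← map_mul, mul_inv_cancel₀ hh, map_one]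
        linear_combination (X 0 : MvPolynomial (Fin 2) κ) * this
      · simp
    · simp [sub, lin, Polynomial.algebraMap_eq]
      rw [mul_add, ← mul_assoc, ← map_mul, ← map_mul, mul_div_cancel₀ _ hh, mul_div_cancel₀ _ hh,
        map_neg, map_neg]
      ring

/-- `L * M ∈ I ^ 2` with `L` a linear prime and `M` arbitrary. -/
theorem mem_of_sq {R : Type u} [CommRing R] [IsDomain R] {I : Ideal R} {L M : R} (hL : L ≠ 0)
    {P : Type u} [CommRing P] [IsDomain P] [IsPrincipalIdealRing P] (π : R →+* P)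
    (hπ : Function.Surjective π) (hker : ∀ p, π p = 0 ↔ L ∣ p) (hLI : L ∈ I) (hM : L * M ∈ I ^ 2) :
    M ∈ I := by
  obtain ⟨p, hp⟩ : ∃ p, I.map π = Ideal.span {p} := ⟨_, (Submodule.IsPrincipal.span_singleton_generator _).symm⟩
  obtain ⟨g, hg, hgp⟩ := (Ideal.mem_map_iff_of_surjective π hπ).mp
    (hp.symm ▸ Ideal.mem_span_singleton_self p : p ∈ I.map π)
  have hI : I = Ideal.span {L} ⊔ Ideal.span {g} := by
    refine le_antisymm (fun x hx => ?_) (sup_le ((Ideal.span_singleton_le_iff_mem _).mpr hLI)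
      ((Ideal.span_singleton_le_iff_mem _).mpr hg))
    obtain ⟨c, hc⟩ := Ideal.mem_span_singleton.mp (hp ▸ Ideal.mem_map_of_mem π hx)
    obtain ⟨c', rfl⟩ := hπ c
    obtain ⟨d, hd⟩ := (hker (x - g * c')).mp (by rw [map_sub, map_mul, hgp, hc, sub_self])
    refine Submodule.mem_sup.mpr ⟨L * d, Ideal.mem_span_singleton.mpr (dvd_mul_right _ _), g * c',
      Ideal.mem_span_singleton.mpr (dvd_mul_right _ _), ?_⟩
    linear_combination -hd
  have hsq : ∃ A B C, L * M = L ^ 2 * A + L * g * B + g ^ 2 * C := by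
    rw [hI, pow_two] at hM
    refine Submodule.mul_induction_on hM ?_ ?_
    · intro m hm n hn
      obtain ⟨_, h1, _, h2, rfl⟩ := Submodule.mem_sup.mp hm
      obtain ⟨_, h3, _, h4, rfl⟩ := Submodule.mem_sup.mp hn
      obtain ⟨a, rfl⟩ := Ideal.mem_span_singleton.mp h1
      obtain ⟨b, rfl⟩ := Ideal.mem_span_singleton.mp h2
      obtain ⟨c, rfl⟩ := Ideal.mem_span_singleton.mp h3
      obtain ⟨d, rfl⟩ := Ideal.mem_span_singleton.mp h4
      exact ⟨a * c, a * d + b * c, b * d, by ring⟩
    · rintro x y ⟨A, B, C, rfl⟩ ⟨A', B', C', rfl⟩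
      exact ⟨A + A', B + B', C + C', by ring⟩
  obtain ⟨A, B, C, e⟩ := hsq
  have hM' : g ^ 2 * C = L * (M - L * A - g * B) := by linear_combination -e
  rcases eq_or_ne p 0 with h0 | h0
  · obtain ⟨g', rfl⟩ := (hker g).mp (hgp.trans h0)
    have : M = L * A + L * g' * B + L * g' ^ 2 * C := mul_left_cancel₀ hL (by linear_combination e)
    rw [this]
    refine I.add_mem (I.add_mem (I.mul_mem_right _ hLI) ?_) ?_ <;> exact I.mul_mem_right _ (I.mul_mem_right _ hLI)
  · have : π C = 0 := by
      have := congrArg π hM'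
      rw [map_mul, map_mul, (hker L).mpr dvd_rfl, zero_mul, map_pow, hgp] at this
      exact (mul_eq_zero.mp this).resolve_left (pow_ne_zero _ h0)
    obtain ⟨C', rfl⟩ := (hker C).mp this
    have : M = L * A + g * B + g * g * C' := mul_left_cancel₀ hL (by linear_combination e)
    rw [this]
    refine I.add_mem (I.add_mem (I.mul_mem_right _ hLI) (I.mul_mem_right _ hg)) ?_
    rw [mul_assoc]; exact I.mul_mem_right _ hg

/-- If `L ^ 2 ∈ I ^ 2` for a prime `L` with principal quotient, then `L ∈ I`. -/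
theorem mem_of_sq_mem {R : Type u} [CommRing R] [IsDomain R] {I : Ideal R} {L : R} (hL : L ≠ 0)
    {P : Type u} [CommRing P] [IsDomain P] [IsPrincipalIdealRing P] (π : R →+* P)
    (hπ : Function.Surjective π) (hker : ∀ p, π p = 0 ↔ L ∣ p) (h : L ^ 2 ∈ I ^ 2) : L ∈ I := by
  let I' : Ideal R := Submodule.colon I {L}
  have hI' : ∀ {r}, r ∈ I' ↔ r * L ∈ I := fun {r} => Submodule.mem_colon_singleton
  have hle : I ≤ I' := fun r hr => hI'.mpr (I.mul_mem_right _ hr)
  suffices (1 : R) ∈ I' by simpa using hI'.mp this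
  obtain ⟨p, hp⟩ : ∃ p, I.map π = Ideal.span {p} := ⟨_, (Submodule.IsPrincipal.span_singleton_generator _).symm⟩
  obtain ⟨g, hg, hgp⟩ := (Ideal.mem_map_iff_of_surjective π hπ).mp
    (hp.symm ▸ Ideal.mem_span_singleton_self p : p ∈ I.map π)
  have hI : ∀ x ∈ I, ∃ r, ∃ s ∈ I', x = g * r + L * s := by
    intro x hx
    obtain ⟨c, hc⟩ := Ideal.mem_span_singleton.mp (hp ▸ Ideal.mem_map_of_mem π hx)
    obtain ⟨c', rfl⟩ := hπ c
    obtain ⟨d, hd⟩ := (hker (x - g * c')).mp (by rw [map_sub, map_mul, hgp, hc, sub_self])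
    refine ⟨c', d, hI'.mpr ?_, by linear_combination hd⟩
    rw [mul_comm, ← hd]
    exact I.sub_mem hx (I.mul_mem_right _ hg)
  have hsq' : ∀ z ∈ I * I, ∃ A, ∃ B ∈ I', ∃ C ∈ I', z = g ^ 2 * A + g * L * B + L ^ 2 * C := by
    intro z hz
    refine Submodule.mul_induction_on hz ?_ ?_
    · intro m hm n hn
      obtain ⟨a, b, hb, rfl⟩ := hI m hm
      obtain ⟨c, d, hd, rfl⟩ := hI n hn
      exact ⟨a * c, a * d + c * b, I'.add_mem (I'.mul_mem_left _ hd) (I'.mul_mem_left _ hb), b * d,
        I'.mul_mem_left _ hd, by ring⟩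
    · rintro x y ⟨A, B, hB, C, hC, rfl⟩ ⟨A', B', hB', C', hC', rfl⟩
      exact ⟨A + A', B + B', I'.add_mem hB hB', C + C', I'.add_mem hC hC', by ring⟩
  obtain ⟨A, B, hB, C, hC, e⟩ := hsq' _ (pow_two I ▸ h)
  rcases eq_or_ne p 0 with h0 | h0
  · obtain ⟨g', rfl⟩ := (hker g).mp (hgp.trans h0)
    have : (1 : R) = g' * g' * A + g' * B + C :=
      mul_left_cancel₀ (pow_ne_zero 2 hL) (by linear_combination e)
    rw [this]
    exact I'.add_mem (I'.add_mem (I'.mul_mem_right _ (I'.mul_mem_left _ (hI'.mpr (by rwa [mul_comm]))))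
      (I'.mul_mem_left _ hB)) hC
  · have hA : π A = 0 := by
      have := congrArg π e
      simp only [map_add, map_mul, map_pow, (hker L).mpr dvd_rfl, hgp] at this
      have h2 : p ^ 2 * π A = 0 := by linear_combination -this
      exact (mul_eq_zero.mp h2).resolve_left (pow_ne_zero _ h0)
    obtain ⟨A', rfl⟩ := (hker A).mp hA
    have e1 : L = g ^ 2 * A' + g * B + L * C := mul_left_cancel₀ hL (by linear_combination e)
    have hE : π (g * A' + B) = 0 := by
      have := congrArg π e1
      simp only [map_add, map_mul, map_pow, (hker L).mpr dvd_rfl, hgp] at this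
      have h2 : p * (p * π A' + π B) = 0 := by linear_combination -this
      rw [map_add, map_mul, hgp]
      exact (mul_eq_zero.mp h2).resolve_left h0
    obtain ⟨E, hE'⟩ := (hker _).mp hE
    have e2 : L * 1 = L * (g * E + C) := by linear_combination e1 + g * hE'
    rw [mul_left_cancel₀ hL e2]
    exact I'.add_mem (I'.mul_mem_right _ (hle hg)) hC

theorem lin_mem_of_sq_mem {I : Ideal (MvPolynomial (Fin 2) κ)} {g h i : κ}
    (hne : lin g h i ≠ 0) (hm : lin g h i ^ 2 ∈ I ^ 2) : lin g h i ∈ I := by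
  by_cases hh : h ≠ 0 ∨ i ≠ 0
  · obtain ⟨u, -, hs, hk⟩ := exists_sub (g := g) hh
    exact mem_of_sq_mem hne (sub u).toRingHom hs hk hm
  · push_neg at hh
    obtain ⟨rfl, rfl⟩ := hh
    have hg : g ≠ 0 := fun h0 => hne (by simp [lin, h0])
    have hu : IsUnit (lin g 0 0) := by
      simpa [lin] using (isUnit_iff_ne_zero.mpr hg).map (C : κ →+* MvPolynomial (Fin 2) κ)
    have := Ideal.eq_top_of_isUnit_mem _ (Ideal.pow_le_self two_ne_zero hm) (hu.pow 2)
    rw [this]; trivial

variable (I : Ideal (MvPolynomial (Fin 2) κ))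

/-- No nonzero polynomial of degree at most one lies in `I`. -/
def NoLin : Prop := ∀ g h i : κ, lin g h i ∈ I → lin g h i = 0

/-- Apply a functional to all coefficients. -/
noncomputable def coeffMap {K : Type u} [Field K] [Algebra κ K] (lam : K →ₗ[κ] κ)
    (p : MvPolynomial (Fin 2) K) : MvPolynomial (Fin 2) κ :=
  ∑ d ∈ p.support, monomial d (lam (coeff d p))

theorem coeff_coeffMap {K : Type u} [Field K] [Algebra κ K] (lam : K →ₗ[κ] κ)
    (p : MvPolynomial (Fin 2) K) (d) : coeff d (coeffMap lam p) = lam (coeff d p) := by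
  classical
  simp only [coeffMap, coeff_sum, coeff_monomial, Finset.sum_ite_eq', mem_support_iff]
  split_ifs with hd
  · rfl
  · rw [not_not.mp hd, map_zero]

theorem coeffMap_mem {K : Type u} [Field K] [Algebra κ K] {x : MvPolynomial (Fin 2) K}
    (hx : x ∈ I.map (MvPolynomial.map (algebraMap κ K))) : ∀ lam : K →ₗ[κ] κ, coeffMap lam x ∈ I := by
  classical
  refine Submodule.span_induction (fun z hz lam => ?_) (fun lam => ?_) (fun z w _ _ hz hw lam => ?_)
    (fun a z _ hz => ?_) hx
  · obtain ⟨v, hv, rfl⟩ := hz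
    have : coeffMap lam (MvPolynomial.map (algebraMap κ K) v) = C (lam 1) * v := by
      ext d
      rw [coeff_coeffMap, coeff_C_mul, coeff_map, Algebra.algebraMap_eq_smul_one, map_smul, smul_eq_mul,
        mul_comm]
    rw [this]; exact I.mul_mem_left _ hv
  · have : coeffMap lam (0 : MvPolynomial (Fin 2) K) = 0 := by ext d; simp [coeff_coeffMap]
    rw [this]; exact I.zero_mem
  · have : coeffMap lam (z + w) = coeffMap lam z + coeffMap lam w := by ext d; simp [coeff_coeffMap]
    rw [this]; exact I.add_mem (hz lam) (hw lam)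
  · induction a using MvPolynomial.induction_on' with
    | monomial d c =>
      intro lam
      have : coeffMap lam (monomial d c • z) =
          monomial d 1 * coeffMap (lam.comp (LinearMap.mulLeft κ c)) z := by
        ext e
        rw [coeff_coeffMap, smul_eq_mul, coeff_monomial_mul', coeff_monomial_mul', coeff_coeffMap]
        split_ifs with hde
        · simp
        · rw [map_zero]
      rw [this]; exact I.mul_mem_left _ (hz _)
    | add p q hp hq =>
      intro lam
      have : coeffMap lam ((p + q) • z) = coeffMap lam (p • z) + coeffMap lam (q • z) := by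
        ext d; simp [coeff_coeffMap, add_mul]
      rw [this]; exact I.add_mem (hp lam) (hq lam)

theorem lin_eq_zero_of_map {K : Type u} [Field K] [Algebra κ K] (hI : NoLin I) {g h i : K}
    (hm : lin g h i ∈ I.map (MvPolynomial.map (algebraMap κ K))) : lin g h i = 0 := by
  classical
  have key : ∀ lam : K →ₗ[κ] κ, lam g = 0 ∧ lam h = 0 ∧ lam i = 0 := by
    intro lam
    refine lin_eq_zero (hI _ _ _ ?_)
    have : coeffMap lam (lin g h i) = lin (lam g) (lam h) (lam i) := by
      ext d
      rw [coeff_coeffMap]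
      simp only [lin, coeff_add, coeff_C_mul, coeff_X', coeff_C, map_add, mul_ite, mul_one, mul_zero]
      split_ifs <;> simp
    exact this ▸ coeffMap_mem I hm lam
  have z : ∀ x : K, (∀ lam : K →ₗ[κ] κ, lam x = 0) → x = 0 := fun x hx =>
    (Module.forall_dual_apply_eq_zero_iff κ x).mp hx
  rw [z g fun l => (key l).1, z h fun l => (key l).2.1, z i fun l => (key l).2.2]
  simp [lin]

end QuadIdealLib
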